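import Cfsg.Agent.Spor.DE2
import Cfsg.Agent.Spor.J4E.C0

set_option autoImplicit false
set_option maxRecDepth 100000000
set_option Elab.async false

namespace Cfsg.Agent.Spor.J4E

section
variable {R : Type} [CommRing R] {Γ : Type} [Group Γ] {G : Type} [Group G] {Y : DCtx D R Γ G}
  {g : ℕ → Γ} {a : ℕ → G}

theorem one : Y.sym 1 = Y.t := DCtx.sym_one okT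

theorem upto (hA : Y.At 4 g a) (hw : ∀ w ∈ BW, ev a w = 1) : Y.Upto 509 := by
  have h := DCtx.Upto.zero (Y := Y)
  have h := h.chkB one hA (fun w h => hw w (List.contains_iff_mem.mp (List.all_eq_true.mp (show (List.map (Bs.word 4) _).all BW.contains = true by decide +kernel) w h))) b0
  have h := h.chk one c0
  have h := h.chk one c1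
  exact h

def QL : List (List Nat) := [[4, 2, 0, 2, 0, 2, 0, 2, 0, 3, 0, 2, 1, 2, 1, 3, 1, 3, 1, 3, 1, 3, 4, 2, 0, 2, 0, 2, 0, 2, 0, 3, 0, 2, 1, 2, 1, 3, 1, 3, 1, 3, 1, 3, 4, 2, 0, 2, 0, 2, 0, 2, 0, 3, 0, 2, 1, 2, 1, 3, 1, 3, 1, 3, 1, 3, 4, 2, 0, 2, 0, 2, 0, 2, 0, 3, 0, 2, 1, 2, 1, 3, 1, 3, 1, 3, 1, 3, 4, 2, 0, 2, 0, 2, 0, 2, 0, 3, 0, 2, 1, 2, 1, 3, 1, 3, 1, 3, 1, 3, 4, 2, 0, 2, 0, 2, 0, 2, 0, 3, 0, 2, 1, 2, 1, 3, 1, 3, 1, 3, 1, 3], [4, 2, 0, 2, 0, 2, 0, 2, 0, 3, 0, 3, 1, 2, 1, 3, 1, 3, 1, 3, 1, 3, 4, 2, 0, 2, 0, 2, 0, 2, 0, 3, 0, 3, 1, 2, 1, 3, 1, 3, 1, 3, 1, 3, 4, 2, 0, 2, 0, 2, 0, 2, 0, 3, 0, 3, 1, 2, 1, 3, 1, 3, 1, 3, 1, 3,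 4, 2, 0, 2, 0, 2, 0, 2, 0, 3, 0, 2, 1, 2, 1, 3, 1, 3, 1, 3, 1, 3, 4, 2, 0, 2, 0, 2, 0, 2, 0, 3, 0, 2, 1, 2, 1, 3, 1, 3, 1, 3, 1, 3, 4, 2, 0, 2, 0, 2, 0, 2, 0, 3, 0, 2, 1, 2, 1, 3, 1, 3, 1, 3, 1, 3], [4, 2, 0, 2, 0, 2, 0, 2, 0, 3, 0, 3, 1, 2, 1, 3, 1, 3, 1, 3, 1, 3, 4, 2, 0, 2, 0, 2, 0, 2, 0, 3, 0, 3, 1, 2, 1, 3, 1, 3, 1, 3, 1, 3, 4, 2, 0, 2, 0, 2, 0, 2, 0, 3, 0, 3, 1, 3, 1, 3, 1, 3, 1, 2, 1, 2, 1, 3, 0, 3, 0, 2, 0, 2, 0, 2, 0, 2, 1, 2, 1, 3, 1, 3, 1, 3, 1, 3, 4, 2, 0, 2, 0, 2, 0, 2, 0, 3, 0, 2, 1, 2, 1, 3, 1, 3, 1, 3, 1, 3, 4, 2, 0, 2, 0, 2, 0, 2, 0, 3, 0, 2, 1, 2, 1, 3, 1, 3, 1, 3, 1, 3, 4, 2, 0, 2, 0, 2, 0, 2, 0, 3, 3, 1, 3, 1,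 3, 1, 2, 1, 2, 0, 3, 0, 3, 0, 2, 0, 2, 0, 2, 2, 1, 3, 1, 3, 1, 3, 1, 3], [4, 2, 0, 2, 0, 2, 0, 2, 0, 3, 0, 3, 1, 2, 1, 3, 1, 3, 1, 3, 1, 3, 4, 2, 0, 2, 0, 2, 0, 2, 0, 3, 0, 3, 1, 2, 1, 3, 1, 3, 1, 3, 1, 3, 4, 2, 0, 2, 0, 2, 0, 2, 0, 3, 0, 3, 1, 2, 1, 3, 1, 3, 1, 3, 1, 3, 1, 2, 0, 2, 0, 2, 0, 2, 0, 3, 0, 2, 1, 2, 1, 3, 1, 3, 1, 3, 1, 3, 4, 2, 0, 2, 0, 2, 0, 2, 0, 3, 0, 2, 1, 2, 1, 3, 1, 3, 1, 3, 1, 3, 4, 2, 0, 2, 0, 2, 0, 2, 0, 3, 0, 2, 1, 2, 1, 3, 1, 3, 1, 3, 1, 3, 4, 0], [4, 2, 0, 2, 0, 2, 0, 2, 0, 3, 0, 3, 1, 2, 1, 3, 1, 3, 1, 3, 1, 3, 4, 2, 0, 2, 0, 2, 0, 2, 0, 3, 0, 3, 1, 2, 1, 3, 1, 3, 1, 3, 1, 3, 4, 2, 0, 2, 0, 2, 0, 2, 0,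 3, 0, 3, 1, 2, 1, 3, 1, 3, 1, 3, 1, 2, 1, 3, 0, 2, 0, 2, 0, 2, 0, 3, 0, 2, 1, 2, 1, 3, 1, 3, 1, 3, 1, 3, 4, 2, 0, 2, 0, 2, 0, 2, 0, 3, 0, 2, 1, 2, 1, 3, 1, 3, 1, 3, 1, 3, 4, 2, 0, 2, 0, 2, 0, 2, 0, 3, 0, 2, 1, 2, 1, 3, 1, 3, 1, 3, 1, 3, 4, 2, 2, 0, 3, 3], [4, 2, 0, 2, 0, 2, 0, 2, 0, 3, 0, 2, 1, 2, 1, 3, 1, 3, 1, 3, 1, 3, 4, 2, 0, 2, 0, 2, 0, 2, 0, 3, 0, 2, 1, 2, 1, 3, 1, 3, 1, 3, 1, 3, 4, 2, 0, 2, 0, 2, 0, 2, 0, 3, 0, 2, 1, 3, 1, 3, 1, 3, 1, 2, 1, 2, 1, 2, 1, 2, 1, 3, 1, 3, 1, 3, 1, 2, 1, 3, 1, 2, 1, 2, 1, 2, 1, 2, 1, 3, 1, 3, 1, 1, 2, 1, 3, 1, 3, 1, 3, 1, 3, 4, 2, 0, 2, 0, 2, 0, 2, 0, 3, 0, 2, 1, 2, 1, 3, 1, 3, 1, 3, 1, 3, 4, 2,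 0, 2, 0, 2, 0, 2, 0, 3, 0, 2, 1, 2, 1, 3, 1, 3, 1, 3, 1, 3, 4, 2, 0, 2, 0, 2, 0, 2, 0, 3, 0, 2, 0, 2, 0, 2, 0, 3, 0, 3, 0, 3, 0, 3, 0, 2, 0, 3, 0, 2, 0, 2, 0, 2, 0, 3, 0, 3, 0, 3, 0, 3, 0, 2, 0, 2, 0, 2, 2, 1, 3, 1, 2, 1, 3, 1, 2, 1, 2, 1, 2, 1, 3, 1, 2, 1, 3, 1, 2, 1, 2, 1, 3, 1, 3, 1, 3, 1, 3, 4, 2, 0, 2, 0, 2, 0, 2, 0, 3, 0, 2, 1, 2, 1, 3, 1, 3, 1, 3, 1, 3, 4, 2, 0, 2, 0, 2, 0, 2, 0, 3, 0, 2, 1, 2, 1, 3, 1, 3, 1, 3, 1, 3, 4, 2, 0, 2, 0, 2, 0, 2, 0, 3, 0, 0, 2, 0, 3, 0, 2, 0, 3, 0, 3, 0, 3, 0, 2, 0, 3, 3, 1, 3, 1, 3], [4, 3, 1, 3, 1, 2, 1, 2, 1, 3, 1, 2, 1, 2, 1, 3, 1, 3, 1, 3, 1, 3, 4, 2, 0, 2, 0, 2, 0, 2, 0, 3, 0, 2, 1, 2, 1,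 3, 1, 3, 1, 3, 1, 3, 4, 2, 0, 2, 0, 2, 0, 2, 0, 3, 0, 2, 1, 2, 1, 3, 1, 3, 1, 3, 1, 3, 4, 2, 0, 2, 0, 2, 0, 2, 0, 3, 0, 0, 2, 0, 3, 0, 3, 0, 2, 0, 2, 4, 3, 1, 3, 1, 2, 1, 2, 1, 3, 1, 1, 2, 1, 3, 1, 3, 1, 3, 1, 3, 4, 2, 0, 2, 0, 2, 0, 2, 0, 3, 0, 3, 1, 2, 1, 3, 1, 3, 1, 3, 1, 3, 4, 2, 0, 2, 0, 2, 0, 2, 0, 3, 0, 3, 1, 2, 1, 3, 1, 3, 1, 3, 1, 3, 4, 2, 0, 2, 0, 2, 0, 2, 0, 3, 0, 3, 0, 2, 0, 3, 0, 3, 0, 2, 0, 2, 1, 3, 1, 3, 1, 2, 1, 2, 1, 2, 1, 3, 1, 3, 1, 2, 1, 3, 1, 3, 1, 3, 1, 2, 1, 2, 1, 3, 1, 2, 1, 2, 1, 2, 1, 2, 1, 2, 1, 3, 1, 3, 1, 2, 1, 3, 1, 3, 1, 3, 1, 3, 1]]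
theorem hQ (hA : Y.At 4 g a) (hw : ∀ w ∈ BW, ev a w = 1) : ∀ w ∈ QL, ev a w = 1 :=
  AllP.forall (show AllP (fun w => ev a w = 1) [[4, 2, 0, 2, 0, 2, 0, 2, 0, 3, 0, 2, 1, 2, 1, 3, 1, 3, 1, 3, 1, 3, 4, 2, 0, 2, 0, 2, 0, 2, 0, 3, 0, 2, 1, 2, 1, 3, 1, 3, 1, 3, 1, 3, 4, 2, 0, 2, 0, 2, 0, 2, 0, 3, 0, 2, 1, 2, 1, 3, 1, 3, 1, 3, 1, 3, 4, 2, 0, 2, 0, 2, 0, 2, 0, 3, 0, 2, 1, 2, 1, 3, 1, 3, 1, 3, 1, 3, 4, 2, 0, 2, 0, 2, 0, 2, 0, 3, 0, 2, 1, 2, 1, 3, 1, 3, 1, 3, 1, 3, 4, 2, 0, 2, 0, 2, 0, 2, 0, 3, 0, 2, 1, 2, 1, 3, 1, 3, 1, 3, 1, 3], [4, 2, 0, 2, 0, 2, 0, 2, 0, 3, 0, 3, 1, 2, 1, 3, 1, 3, 1, 3, 1, 3, 4, 2, 0, 2, 0, 2, 0, 2, 0, 3, 0, 3, 1, 2,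 1, 3, 1, 3, 1, 3, 1, 3, 4, 2, 0, 2, 0, 2, 0, 2, 0, 3, 0, 3, 1, 2, 1, 3, 1, 3, 1, 3, 1, 3, 4, 2, 0, 2, 0, 2, 0, 2, 0, 3, 0, 2, 1, 2, 1, 3, 1, 3, 1, 3, 1, 3, 4, 2, 0, 2, 0, 2, 0, 2, 0, 3, 0, 2, 1, 2, 1, 3, 1, 3, 1, 3, 1, 3, 4, 2, 0, 2, 0, 2, 0, 2, 0, 3, 0, 2, 1, 2, 1, 3, 1, 3, 1, 3, 1, 3], [4, 2, 0, 2, 0, 2, 0, 2, 0, 3, 0, 3, 1, 2, 1, 3, 1, 3, 1, 3, 1, 3, 4, 2, 0, 2, 0, 2, 0, 2, 0, 3, 0, 3, 1, 2, 1, 3, 1, 3, 1, 3, 1, 3, 4, 2, 0, 2, 0, 2, 0, 2, 0, 3, 0, 3, 1, 3, 1, 3, 1, 3, 1, 2, 1, 2, 1, 3, 0, 3, 0, 2, 0, 2, 0, 2, 0, 2, 1, 2, 1, 3, 1, 3, 1, 3, 1, 3, 4, 2, 0, 2, 0, 2, 0, 2, 0, 3, 0, 2, 1, 2, 1, 3, 1, 3, 1, 3, 1, 3, 4, 2, 0, 2, 0, 2,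 0, 2, 0, 3, 0, 2, 1, 2, 1, 3, 1, 3, 1, 3, 1, 3, 4, 2, 0, 2, 0, 2, 0, 2, 0, 3, 3, 1, 3, 1, 3, 1, 2, 1, 2, 0, 3, 0, 3, 0, 2, 0, 2, 0, 2, 2, 1, 3, 1, 3, 1, 3, 1, 3], [4, 2, 0, 2, 0, 2, 0, 2, 0, 3, 0, 3, 1, 2, 1, 3, 1, 3, 1, 3, 1, 3, 4, 2, 0, 2, 0, 2, 0, 2, 0, 3, 0, 3, 1, 2, 1, 3, 1, 3, 1, 3, 1, 3, 4, 2, 0, 2, 0, 2, 0, 2, 0, 3, 0, 3, 1, 2, 1, 3, 1, 3, 1, 3, 1, 3, 1, 2, 0, 2, 0, 2, 0, 2, 0, 3, 0, 2, 1, 2, 1, 3, 1, 3, 1, 3, 1, 3, 4, 2, 0, 2, 0, 2, 0, 2, 0, 3, 0, 2, 1, 2, 1, 3, 1, 3, 1, 3, 1, 3, 4, 2, 0, 2, 0, 2, 0, 2, 0, 3, 0, 2, 1, 2, 1, 3, 1, 3, 1, 3, 1, 3, 4, 0], [4, 2, 0, 2, 0, 2, 0, 2, 0, 3, 0, 3, 1, 2, 1, 3, 1, 3, 1, 3, 1, 3, 4,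 2, 0, 2, 0, 2, 0, 2, 0, 3, 0, 3, 1, 2, 1, 3, 1, 3, 1, 3, 1, 3, 4, 2, 0, 2, 0, 2, 0, 2, 0, 3, 0, 3, 1, 2, 1, 3, 1, 3, 1, 3, 1, 2, 1, 3, 0, 2, 0, 2, 0, 2, 0, 3, 0, 2, 1, 2, 1, 3, 1, 3, 1, 3, 1, 3, 4, 2, 0, 2, 0, 2, 0, 2, 0, 3, 0, 2, 1, 2, 1, 3, 1, 3, 1, 3, 1, 3, 4, 2, 0, 2, 0, 2, 0, 2, 0, 3, 0, 2, 1, 2, 1, 3, 1, 3, 1, 3, 1, 3, 4, 2, 2, 0, 3, 3], [4, 2, 0, 2, 0, 2, 0, 2, 0, 3, 0, 2, 1, 2, 1, 3, 1, 3, 1, 3, 1, 3, 4, 2, 0, 2, 0, 2, 0, 2, 0, 3, 0, 2, 1, 2, 1, 3, 1, 3, 1, 3, 1, 3, 4, 2, 0, 2, 0, 2, 0, 2, 0, 3, 0, 2, 1, 3, 1, 3, 1, 3, 1, 2, 1, 2, 1, 2, 1, 2, 1, 3, 1, 3, 1, 3, 1, 2, 1, 3, 1, 2, 1, 2, 1, 2, 1, 2, 1, 3, 1, 3, 1, 1, 2, 1, 3,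 1, 3, 1, 3, 1, 3, 4, 2, 0, 2, 0, 2, 0, 2, 0, 3, 0, 2, 1, 2, 1, 3, 1, 3, 1, 3, 1, 3, 4, 2, 0, 2, 0, 2, 0, 2, 0, 3, 0, 2, 1, 2, 1, 3, 1, 3, 1, 3, 1, 3, 4, 2, 0, 2, 0, 2, 0, 2, 0, 3, 0, 2, 0, 2, 0, 2, 0, 3, 0, 3, 0, 3, 0, 3, 0, 2, 0, 3, 0, 2, 0, 2, 0, 2, 0, 3, 0, 3, 0, 3, 0, 3, 0, 2, 0, 2, 0, 2, 2, 1, 3, 1, 2, 1, 3, 1, 2, 1, 2, 1, 2, 1, 3, 1, 2, 1, 3, 1, 2, 1, 2, 1, 3, 1, 3, 1, 3, 1, 3, 4, 2, 0, 2, 0, 2, 0, 2, 0, 3, 0, 2, 1, 2, 1, 3, 1, 3, 1, 3, 1, 3, 4, 2, 0, 2, 0, 2, 0, 2, 0, 3, 0, 2, 1, 2, 1, 3, 1, 3, 1, 3, 1, 3, 4, 2, 0, 2, 0, 2, 0, 2, 0, 3, 0, 0, 2, 0, 3, 0, 2, 0, 3, 0, 3, 0, 3, 0, 2, 0, 3, 3, 1, 3, 1, 3], [4, 3, 1, 3, 1, 2, 1,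 2, 1, 3, 1, 2, 1, 2, 1, 3, 1, 3, 1, 3, 1, 3, 4, 2, 0, 2, 0, 2, 0, 2, 0, 3, 0, 2, 1, 2, 1, 3, 1, 3, 1, 3, 1, 3, 4, 2, 0, 2, 0, 2, 0, 2, 0, 3, 0, 2, 1, 2, 1, 3, 1, 3, 1, 3, 1, 3, 4, 2, 0, 2, 0, 2, 0, 2, 0, 3, 0, 0, 2, 0, 3, 0, 3, 0, 2, 0, 2, 4, 3, 1, 3, 1, 2, 1, 2, 1, 3, 1, 1, 2, 1, 3, 1, 3, 1, 3, 1, 3, 4, 2, 0, 2, 0, 2, 0, 2, 0, 3, 0, 3, 1, 2, 1, 3, 1, 3, 1, 3, 1, 3, 4, 2, 0, 2, 0, 2, 0, 2, 0, 3, 0, 3, 1, 2, 1, 3, 1, 3, 1, 3, 1, 3, 4, 2, 0, 2, 0, 2, 0, 2, 0, 3, 0, 3, 0, 2, 0, 3, 0, 3, 0, 2, 0, 2, 1, 3, 1, 3, 1, 2, 1, 2, 1, 2, 1, 3, 1, 3, 1, 2, 1, 3, 1, 3, 1, 3, 1, 2, 1, 2, 1, 3, 1, 2, 1, 2, 1, 2, 1, 2, 1, 2, 1, 3, 1, 3, 1, 2, 1, 3,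 1, 3, 1, 3, 1, 3, 1]] from AllP.cons ((upto hA hw).rel hA q0) (AllP.cons ((upto hA hw).rel hA q1) (AllP.cons ((upto hA hw).rel hA q2) (AllP.cons ((upto hA hw).rel hA q3) (AllP.cons ((upto hA hw).rel hA q4) (AllP.cons ((upto hA hw).rel hA q5) (AllP.cons ((upto hA hw).rel hA q6) (AllP.nil))))))))

end

end Cfsg.Agent.Spor.J4E
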