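import Cfsg.Agent.Spor.DE0
import Cfsg.Agent.Spor.J4M.D0

set_option autoImplicit false
set_option maxRecDepth 100000000
set_option Elab.async false
noncomputable section

namespace Cfsg.Agent.Spor.J4E

abbrev A : PA := J4M.A
abbrev A_one : Nat := J4M.A_one

def e0 : Nat := nat_lit 0x100020000000200000040008000000001400000000008080000000010000020000002000004000080200000800000000400100000002000004000010000000800001000040000

def e71 : Nat := nat_lit 0x10002000000200000800080000000040000400010000008000001000400000004000100000020000200000000100000020040000000080800000000008000004000002000001

def e74 : Nat := nat_lit 0x40000000400000020004000080000800000002000010000008000100000020000000800001000400000000080000100000200000010200000000040000008000004000002000001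

def e75 : Nat := nat_lit 0x40020000000080001000080000000010400000010000008000000800000400100000004000002000000020000100200000800000000200040000000008000004000002000001

def e248 : Nat := nat_lit 0x400000001000200000040000000100002000000800080000008000000040100000800000000010004000000080010000000020000400000200020000000008000004000002000001

def e497 : Nat := nat_lit 0x200010000200000100000080000040000000080000002000040000008020000800000000800004000001000000010002000000004000100000020000400008000400000000001

def e498 : Nat := nat_lit 0x1000000002200000100000080000040000002000400000000004000400000080000200000800000008800000000020020000008000000010000100004000000040010000000001

abbrev TT : List Nat := J4M.TT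

end Cfsg.Agent.Spor.J4E
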